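import Groth.Agent.HTopAbu.Noetherian
import Groth.Agent.HTopV.SquareSheafGen
import Groth.Agent.ProperModel.Basic
import Mathlib

/-!
# Sheaves for the h topology via flat proper descent and almost blow-up squares
-/

set_option autoImplicit false
set_option linter.style.haveILetI false
set_option backward.isDefEq.respectTransparency false
set_option backward.isDefEq.respectTransparency.types false

universe w u

open CategoryTheory CategoryTheory.Limits AlgebraicGeometry TopologicalSpace Opposite

noncomputable section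

namespace Groth.Agent.HTopAbu

open HTopVPh (finestBelow)
open LimDesc

/-- A proper surjective morphism of finite presentation to an affine scheme comes from a subring of finite type. -/
theorem exists_model {A : Type u} [CommRing A] {X : Scheme.{u}} (f : X ⟶ Spec (CommRingCat.of A))
    [IsProper f] [Surjective f] [LocallyOfFinitePresentation f] :
    ∃ A₀ : Subalgebra ℤ A, A₀.FG ∧ ∃ (X₀ : Scheme.{u}) (f₀ : X₀ ⟶ Spec (CommRingCat.of ↥A₀)) (g : X ⟶ X₀),
      IsProper f₀ ∧ Surjective f₀ ∧
        IsPullback g f f₀ (Spec.map (CommRingCat.ofHom (algebraMap (↥A₀) A))) := by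
  let D := LimModel.fgDiagram A
  let c := LimModel.fgCone A
  let hc := LimModel.fgIsLimit A
  haveI : IsCofiltered (LimModel.FgSub A)ᵒᵖ := isCofiltered_op_of_isFiltered _
  haveI : ∀ {i j : (LimModel.FgSub A)ᵒᵖ} (f : i ⟶ j), IsAffineHom (D.map f) := fun f =>
    inferInstanceAs (IsAffineHom ((LimModel.fgDiagram A).map f))
  haveI : ∀ i : (LimModel.FgSub A)ᵒᵖ, IsAffine (D.obj i) := fun i => inferInstanceAs (IsAffine (Spec _))
  haveI : ∀ i : (LimModel.FgSub A)ᵒᵖ, IsLocallyNoetherian (D.obj i) := fun i => by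
    have := Algebra.FiniteType.isNoetherianRing ℤ i.unop.1
      (h := i.unop.1.fg_iff_finiteType.mp i.unop.2)
    exact inferInstanceAs (IsLocallyNoetherian (Spec (CommRingCat.of i.unop.1)))
  let a : X ⟶ c.pt := f
  haveI : IsProper a := ‹IsProper f›
  haveI : Surjective a := ‹Surjective f›
  haveI : LocallyOfFinitePresentation a := ‹LocallyOfFinitePresentation f›
  obtain ⟨i, Xi, fi, g, h1, h2, h3, h4⟩ := LimModel.exists_model D c hc a
  haveI := h1; haveI := h2; haveI := h3
  have : CompactSpace Xi := QuasiCompact.compactSpace_of_compactSpace fi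
  obtain ⟨j₁, hj₁⟩ := LimMore.exists_isSeparated_of_compactSpace D c hc fi (𝟙 _) (LimMore.isPullback_id D c) h4
  haveI : LocallyOfFinitePresentation (fi ≫ 𝟙 (D.obj i)) := inferInstance
  obtain ⟨j₂, hj₂⟩ := LimDesc.exists_surjective D c hc fi (𝟙 _) (LimMore.isPullback_id D c) h4
  obtain ⟨l, e₁, e₂, -⟩ := IsCofilteredOrEmpty.cone_objs j₁ j₂
  haveI : IsSeparated (toStage D fi l) := (LimMore.stageMap_id_iff D fi @IsSeparated l).1
    (MorphismProperty.of_isPullback (P := @IsSeparated) (isPullback_trans_stageMap D (𝟙 _) fi e₁) hj₁)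
  haveI : Surjective (toStage D fi l) := (LimMore.stageMap_id_iff D fi @Surjective l).1
    (MorphismProperty.of_isPullback (P := @Surjective) (isPullback_trans_stageMap D (𝟙 _) fi e₂) hj₂)
  haveI : LocallyOfFinitePresentation (toStage D fi l) :=
    MorphismProperty.of_isPullback (P := @LocallyOfFinitePresentation) (isPullback_stage D fi l) h1
  haveI : QuasiCompact (toStage D fi l) :=
    MorphismProperty.of_isPullback (P := @QuasiCompact) (isPullback_stage D fi l) h2
  have hl := isPullback_proj D fi c h4 l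
  obtain ⟨k, φ, hk⟩ := ProperModel.exists_isProper_stage D hc (i₀ := l.left) (toStage D fi l) hl
  refine ⟨k.unop.1, k.unop.2, pullback (toStage D fi l) (D.map φ), pullback.snd _ _,
    proj D (toStage D fi l) c hl (Over.mk φ), hk, MorphismProperty.pullback_snd _ _ inferInstance, ?_⟩
  exact isPullback_proj D (toStage D fi l) c hl (Over.mk φ)

variable {S : Scheme.{u}} {F : (Over S)ᵒᵖ ⥤ Type w}

/-- Proper surjective morphisms of finite presentation are coverings. -/
theorem proper_surjective_lfp_mem (h₁ : Presieve.IsSheaf (Scheme.zariskiTopology.over S) F)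
    (h₂ : FlatProperCond F) (h₃ : TwoSquareCond F) {A : Type u} [CommRing A] {V : Scheme.{u}}
    (f : V ⟶ Spec (CommRingCat.of A)) [IsProper f] [Surjective f] [LocallyOfFinitePresentation f] :
    gen f ∈ finestBelow F (Spec (CommRingCat.of A)) := by
  obtain ⟨A₀, hA₀, X₀, f₀, g, hp, hs, hsq⟩ := exists_model f
  haveI := hp
  haveI := hs
  haveI : IsNoetherianRing A₀ := Algebra.FiniteType.isNoetherianRing ℤ A₀
    (h := A₀.fg_iff_finiteType.mp hA₀)
  haveI : IsLocallyNoetherian (Spec (CommRingCat.of A₀)) := inferInstance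
  refine (finestBelow F).superset_covering (fun T a ha => ?_)
    ((finestBelow F).pullback_stable (Spec.map (CommRingCat.ofHom (algebraMap (↥A₀) A)))
      (proper_surjective_mem h₁ h₂ h₃ f₀))
  obtain ⟨c, hc⟩ := (gen_iff _ _).1 ha
  exact (gen_iff _ _).2 ⟨hsq.lift c a hc, hsq.lift_snd _ _ _⟩

/-- The criterion. -/
theorem isSheaf_Jh_of_cond (h₁ : Presieve.IsSheaf (Scheme.zariskiTopology.over S) F)
    (h₂ : FlatProperCond F) (h₃ : TwoSquareCond F) : Presieve.IsSheaf (HTop.Jh S) F := by
  refine HTopVPh.isSheaf_Jh_iff.2 ⟨h₁, fun U V f hU hp hs hf => ?_⟩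
  haveI := hU
  haveI := hp
  haveI := hs
  haveI := hf
  let f' : V.left ⟶ Spec (CommRingCat.of Γ(U.left, ⊤)) := f.left ≫ U.left.isoSpec.hom
  haveI : IsProper f' := inferInstanceAs (IsProper (f.left ≫ U.left.isoSpec.hom))
  haveI : Surjective f' := inferInstanceAs (Surjective (f.left ≫ U.left.isoSpec.hom))
  haveI : LocallyOfFinitePresentation f' :=
    inferInstanceAs (LocallyOfFinitePresentation (f.left ≫ U.left.isoSpec.hom))
  have hmem := proper_surjective_lfp_mem h₁ h₂ h₃ f' U U.left.isoSpec.hom U (𝟙 U)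
  rw [Sieve.pullback_id] at hmem
  have e : (Sieve.overEquiv U).symm ((gen f').pullback U.left.isoSpec.hom) =
      Sieve.generate (Presieve.singleton f) := by
    refine Sieve.ext fun T a => ?_
    rw [Sieve.overEquiv_symm_iff]
    show gen f' (a.left ≫ U.left.isoSpec.hom) ↔ _
    rw [gen_iff]
    constructor
    · rintro ⟨c, hc⟩
      have hc' : c ≫ f.left = a.left := by
        rw [← cancel_mono U.left.isoSpec.hom, Category.assoc]; exact hc
      refine ⟨_, Over.homMk c ?_, _, Presieve.singleton_self f, ?_⟩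
      · rw [← Over.w f, reassoc_of% hc', Over.w a]
      · ext; exact hc'
    · rintro ⟨_, c, _, ⟨⟩, rfl⟩
      exact ⟨c.left, (Category.assoc _ _ _).symm⟩
  rw [e] at hmem
  exact (Presieve.isSheafFor_iff_generate _).2 hmem

theorem flatProperCond_of_isSheaf (h : Presieve.IsSheaf (HTop.Jh S) F) : FlatProperCond F :=
  fun X Y f hY hs _ hp hf => (HTopVPh.isSheaf_Jh_iff.1 h).2 Y X f hY hp hs hf

theorem zariski_of_isSheaf (h : Presieve.IsSheaf (HTop.Jh S) F) :
    Presieve.IsSheaf (Scheme.zariskiTopology.over S) F := (HTopVPh.isSheaf_Jh_iff.1 h).1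

theorem square_of_isSheaf (h : Presieve.IsSheaf (HTop.Jh S) F) {E Z X' X : Over S} (e : E ⟶ X') (π : E ⟶ Z)
    (b : X' ⟶ X) (i : Z ⟶ X) (hsq : HTop.IsAlmostBlowUpSquare e.left π.left b.left i.left)
    (t : F.obj (op Z)) (s' : F.obj (op X')) (hts : F.map π.op t = F.map e.op s') :
    ∃! s : F.obj (op X), F.map i.op s = t ∧ F.map b.op s = s' :=
  HTopV.Gen.existsUnique_of_almostBlowUp h e π b i hsq t s' hts

end Groth.Agent.HTopAbu

end
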