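import Groth.Agent.HTopAbu.Topology
import Groth.Agent.S14793
import Groth.Agent.BlowUpExist.Global
import Groth.Agent.BlowUpExist.Proper
import Groth.Agent.GrpdFit.Ideal
import Groth.Agent.DvrDom.ClosedProper
import Groth.Agent.RZExt.Consequences
import Mathlib

/-!
# Proper surjective morphisms over noetherian bases are coverings
-/

set_option autoImplicit false
set_option linter.style.haveILetI false
set_option backward.isDefEq.respectTransparency false
set_option backward.isDefEq.respectTransparency.types false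

universe w u

open CategoryTheory CategoryTheory.Limits AlgebraicGeometry TopologicalSpace Opposite

noncomputable section

namespace Groth.Agent.HTopAbu

open HTopVPh (finestBelow)

variable {S : Scheme.{u}} {F : (Over S)ᵒᵖ ⥤ Type w}

theorem fg_ideal {X : Scheme.{u}} [IsLocallyNoetherian X] (J : X.IdealSheafData) (U : X.affineOpens) :
    (J.ideal U).FG := by
  haveI := IsLocallyNoetherian.component_noetherian (X := X) U
  exact IsNoetherian.noetherian _

theorem lfp_subschemeι_of_noetherian {X : Scheme.{u}} [IsLocallyNoetherian X] (J : X.IdealSheafData) :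
    LocallyOfFinitePresentation J.subschemeι := GrpdFit.lfp_subschemeι J fun x => by
  obtain ⟨U, hU, hxU, -⟩ := exists_isAffineOpen_mem_and_subset (x := x) (U := (⊤ : X.Opens)) trivial
  exact ⟨⟨U, hU⟩, hxU, fg_ideal J _⟩

theorem isFiniteType_of_noetherian {X : Scheme.{u}} [IsLocallyNoetherian X] (J : X.IdealSheafData) :
    BlowUp.IsFiniteTypeIdeal J := fun U => fg_ideal J U

/-- A blow-up in an ideal with two generators gives a covering. -/
theorem blowUp_pair_mem (h₁ : Presieve.IsSheaf (Scheme.zariskiTopology.over S) F) (h₃ : TwoSquareCond F)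
    {X : Scheme.{u}} [IsAffine X] [IsLocallyNoetherian X] (J : X.IdealSheafData) (f₁ f₂ : Γ(X, ⊤))
    (hJ : J = Scheme.IdealSheafData.ofIdealTop (Ideal.span {f₁, f₂})) {T : Scheme.{u}} (b : T ⟶ X)
    (hb : BlowUp.IsBlowUp b J) : gen J.subschemeι ⊔ gen b ∈ finestBelow F X := by
  haveI := BlowUpExist.isProper_of_isFiniteType hb (isFiniteType_of_noetherian J)
  haveI := lfp_subschemeι_of_noetherian J
  have hker : J.subschemeι.ker = J := Scheme.IdealSheafData.ker_subschemeι J
  have hlp : HTop.IsLocPrincipal (J.subschemeι.ker.comap b) := fun x => by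
    obtain ⟨U, hU, f, -, hf⟩ := hb.1 x
    exact ⟨U, hU, f, by rw [hker]; exact hf⟩
  have hbot : HTop.supportedOn (J.subschemeι.ker.comap b) = ⊥ := AlmostBlow.supportedOn_eq_bot (hker.symm ▸ hb.1)
  have hsq : HTop.IsAlmostBlowUpSquare (pullback.fst b J.subschemeι) (pullback.snd b J.subschemeι) b
      J.subschemeι := by
    refine ⟨inferInstance, inferInstance, IsPullback.of_hasPullback _ _, hlp, inferInstance, inferInstance, ?_⟩
    rw [hbot, hker]
    exact RZExt.isBlowUp_iso_comp hb _
  exact pair_mem h₁ h₃ _ _ b J.subschemeι hsq f₁ f₂ (hker.trans hJ)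

/-- Coverings by a centre and its blow-up pull back to coverings by the inverse image and its blow-up. -/
theorem pullback_blowUp_mem {X W T T' : Scheme.{u}} {K : GrothendieckTopology Scheme.{u}} {J : X.IdealSheafData}
    {b : T ⟶ X} (hb : BlowUp.IsBlowUp b J) (h : W ⟶ X) {b' : T' ⟶ W} (hb' : BlowUp.IsBlowUp b' (J.comap h))
    (hmem : gen (J.comap h).subschemeι ⊔ gen b' ∈ K W) : (gen J.subschemeι ⊔ gen b).pullback h ∈ K W := by
  refine K.superset_covering (fun Y a ha => ?_) hmem
  rcases ha with hc | hc
  · obtain ⟨c, rfl⟩ := (gen_iff _ _).1 hc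
    refine Or.inl ((gen_iff _ _).2
      ⟨c ≫ Scheme.IdealSheafData.subschemeMap (J.comap h) J h (J.le_map_comap h), ?_⟩)
    rw [Category.assoc, Scheme.IdealSheafData.subschemeMap_subschemeι, Category.assoc]
  · obtain ⟨c, rfl⟩ := (gen_iff _ _).1 hc
    obtain ⟨l, hl, -⟩ := hb.2 T' (b' ≫ h) (by rw [Scheme.IdealSheafData.comap_comp]; exact hb'.1)
    exact Or.inr ((gen_iff _ _).2 ⟨c ≫ l, by rw [Category.assoc, hl, Category.assoc]⟩)

/-- A blow-up gives a covering. -/
theorem blowUp_mem (h₁ : Presieve.IsSheaf (Scheme.zariskiTopology.over S) F) (h₃ : TwoSquareCond F) (n : ℕ) :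
    ∀ (X : Scheme.{u}) [IsAffine X] [IsLocallyNoetherian X] (s : Finset Γ(X, ⊤)), s.card ≤ n →
      ∀ (J : X.IdealSheafData), J = Scheme.IdealSheafData.ofIdealTop (Ideal.span (s : Set Γ(X, ⊤))) →
      ∀ (T : Scheme.{u}) (b : T ⟶ X), BlowUp.IsBlowUp b J → gen J.subschemeι ⊔ gen b ∈ finestBelow F X := by
  classical
  induction n with
  | zero =>
    intro X _ _ s hs J hJ T b hb
    refine blowUp_pair_mem h₁ h₃ J 0 0 ?_ b hb
    rw [hJ, Finset.card_eq_zero.1 (Nat.le_zero.1 hs)]
    simp
  | succ n ih =>
    intro X _ _ s hs J hJ T b hb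
    rcases Nat.lt_or_ge s.card 3 with hs2 | hs3
    · have hcases : ∃ f₁ f₂ : Γ(X, ⊤), Ideal.span (s : Set Γ(X, ⊤)) = Ideal.span {f₁, f₂} := by
        interval_cases hcard : s.card
        · exact ⟨0, 0, by rw [Finset.card_eq_zero.1 hcard]; simp⟩
        · obtain ⟨a, rfl⟩ := Finset.card_eq_one.1 hcard
          exact ⟨a, a, by simp⟩
        · obtain ⟨a, c, -, rfl⟩ := Finset.card_eq_two.1 hcard
          exact ⟨a, c, by simp⟩
      obtain ⟨f₁, f₂, hf⟩ := hcases
      exact blowUp_pair_mem h₁ h₃ J f₁ f₂ (hJ.trans (by rw [hf])) b hb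
    · obtain ⟨f₁, hf₁⟩ : s.Nonempty := Finset.card_pos.1 (by omega)
      obtain ⟨f₂, hf₂⟩ : (s.erase f₁).Nonempty := Finset.card_pos.1 (by rw [Finset.card_erase_of_mem hf₁]; omega)
      let s' := (s.erase f₁).erase f₂
      have hs' : s'.card + 2 = s.card := by
        rw [Finset.card_erase_of_mem hf₂, Finset.card_erase_of_mem hf₁]; omega
      have hspan : (s : Set Γ(X, ⊤)) = {f₁, f₂} ∪ (s' : Set Γ(X, ⊤)) := by
        have e : s = insert f₁ (insert f₂ s') := by rw [Finset.insert_erase hf₂, Finset.insert_erase hf₁]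
        conv_lhs => rw [e]
        simp only [Finset.coe_insert, Set.insert_union, Set.singleton_union]
      let J₂ : X.IdealSheafData := Scheme.IdealSheafData.ofIdealTop (Ideal.span {f₁, f₂})
      obtain ⟨T₂, b₂, hb₂⟩ := BlowUpExist.exists_isBlowUp X J₂
      refine mem_of_pair (blowUp_pair_mem h₁ h₃ J₂ f₁ f₂ rfl b₂ hb₂) ?_ ?_
      · -- on the closed subscheme
        haveI : IsAffine J₂.subscheme := isAffine_of_isAffineHom J₂.subschemeι
        haveI : IsLocallyNoetherian J₂.subscheme := LocallyOfFiniteType.isLocallyNoetherian J₂.subschemeι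
        obtain ⟨T', b', hb'⟩ := BlowUpExist.exists_isBlowUp _ (J.comap J₂.subschemeι)
        refine pullback_blowUp_mem hb _ hb' ?_
        refine ih J₂.subscheme (s'.image J₂.subschemeι.appTop.hom)
          (Finset.card_image_le.trans (by omega)) _ ?_ T' b' hb'
        rw [hJ, ideal_comap_ofIdealTop, Finset.coe_image, ← Ideal.map_span, hspan, Ideal.span_union,
          Ideal.map_sup]
        congr 1
        refine sup_eq_right.2 ?_
        have h0 : (Ideal.span {f₁, f₂}).map J₂.subschemeι.appTop.hom = ⊥ := by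
          rw [Ideal.map_eq_bot_iff_le_ker]
          have hk := J₂.ker_subschemeι_app ⟨⊤, isAffineOpen_top X⟩
          intro a ha
          have h2 : a ∈ RingHom.ker (J₂.subschemeι.app ⊤).hom := by
            rw [hk]
            simp only [J₂, Scheme.IdealSheafData.ofIdealTop_ideal, homOfLE_refl, op_id,
              CategoryTheory.Functor.map_id, CommRingCat.hom_id, Ideal.map_id]
            exact ha
          exact h2
        rw [h0]
        exact bot_le
      · -- on the blow-up
        choose W hW g _hg hgen using hb₂.1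
        let 𝒲 : T₂.OpenCover := T₂.openCoverOfIsOpenCover (fun x => (W x).1)
          (top_le_iff.1 fun x _ => Opens.mem_iSup.2 ⟨x, hW x⟩)
        haveI := BlowUpExist.isProper_of_isFiniteType hb₂ (isFiniteType_of_noetherian J₂)
        haveI : IsLocallyNoetherian T₂ := LocallyOfFiniteType.isLocallyNoetherian b₂
        refine mem_of_openCover h₁ 𝒲 fun x => ?_
        change T₂ at x
        haveI : IsAffine (W x).1.toScheme := (W x).2
        haveI : IsAffine (𝒲.X x) := (W x).2
        let j : (W x).1.toScheme ⟶ T₂ := (W x).1.ι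
        show ((gen J.subschemeι ⊔ gen b).pullback b₂).pullback j ∈ _
        rw [← Sieve.pullback_comp]
        haveI : IsLocallyNoetherian (W x).1.toScheme := inferInstance
        obtain ⟨T', b', hb'⟩ := BlowUpExist.exists_isBlowUp _ (J.comap (j ≫ b₂))
        refine pullback_blowUp_mem hb _ hb' ?_
        let φ := (j ≫ b₂).appTop.hom
        let g' : Γ((W x).1.toScheme, ⊤) := (W x).1.topIso.inv (g x)
        refine ih (W x).1.toScheme (insert g' (s'.image φ))
          ((Finset.card_insert_le _ _).trans (Nat.add_le_add_right Finset.card_image_le 1 |>.trans (by omega))) _ ?_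
          T' b' hb'
        have h2 : (Ideal.span {f₁, f₂}).map φ = Ideal.span {g'} := by
          have h3 : J₂.comap (j ≫ b₂) = Scheme.IdealSheafData.ofIdealTop ((Ideal.span {f₁, f₂}).map φ) :=
            ideal_comap_ofIdealTop _ _
          have h4 := congrArg (fun I : (W x).1.toScheme.IdealSheafData => I.ideal ⟨⊤, isAffineOpen_top _⟩) h3
          simp only [Scheme.IdealSheafData.ofIdealTop_ideal, homOfLE_refl, op_id, CategoryTheory.Functor.map_id,
            CommRingCat.hom_id, Ideal.map_id] at h4
          rw [← h4, Scheme.IdealSheafData.comap_comp,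
            FpqcDescent.ideal_comap_appLE _ j (W x) ⟨⊤, isAffineOpen_top _⟩ (by simp [j]), hgen x,
            Ideal.map_span, Set.image_singleton]
          congr 2
          simp [g', j]
          exact congrArg (fun m => (T₂.presheaf.map m).hom (g x)) (Subsingleton.elim _ _)
        rw [hJ, ideal_comap_ofIdealTop, hspan, Ideal.span_union, Ideal.map_sup, h2, Ideal.map_span,
          Finset.coe_insert, Finset.coe_image, Ideal.span_insert]
        rfl

theorem blowUp_mem_of_noetherian (h₁ : Presieve.IsSheaf (Scheme.zariskiTopology.over S) F) (h₃ : TwoSquareCond F)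
    {X T : Scheme.{u}} [IsAffine X] [IsLocallyNoetherian X] (J : X.IdealSheafData) (b : T ⟶ X)
    (hb : BlowUp.IsBlowUp b J) : gen J.subschemeι ⊔ gen b ∈ finestBelow F X := by
  obtain ⟨s, hs⟩ := fg_ideal J ⟨⊤, isAffineOpen_top X⟩
  refine blowUp_mem h₁ h₃ s.card X s le_rfl J ?_ T b hb
  refine Scheme.IdealSheafData.ext_of_isAffine ?_
  simp only [Scheme.IdealSheafData.ofIdealTop_ideal, homOfLE_refl, op_id, CategoryTheory.Functor.map_id,
    CommRingCat.hom_id, Ideal.map_id]
  exact hs.symm

theorem finite_maximal (X : Scheme.{u}) [IsNoetherian X] : {y : X | ∀ y' : X, y' ⤳ y → y' = y}.Finite := by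
  refine (genericPoints.finite finite_irreducibleComponents_of_isNoetherian).subset fun y hy => ?_
  have hc := irreducibleComponent_mem_irreducibleComponents y
  have hη := (isIrreducible_irreducibleComponent (x := y)).isGenericPoint_genericPoint
    isClosed_irreducibleComponent
  have e := hy _ (hη.specializes mem_irreducibleComponent)
  show closure {y} ∈ irreducibleComponents X
  rw [e] at hη
  rw [hη.def]
  exact hc

theorem univSSubtrusive_of_proper {V X : Scheme.{u}} (f : V ⟶ X) [IsProper f] [Surjective f] :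
    Subtr.UnivSSubtrusive f := by
  intro X' Y' i₁ i₂ f' h y y' hy
  haveI : IsProper f' := MorphismProperty.of_isPullback h.flip ‹IsProper f›
  haveI : Surjective f' := MorphismProperty.of_isPullback h.flip ‹Surjective f›
  obtain ⟨x', rfl⟩ := f'.surjective y'
  have hmem : y ∈ f' '' closure {x'} :=
    hy.mem_closed (f'.isClosedMap _ isClosed_closure) ⟨x', subset_closure rfl, rfl⟩
  obtain ⟨x, hx, hxy⟩ := hmem
  exact ⟨x, x', specializes_iff_mem_closure.2 hx, hxy, rfl⟩

/-- Everything covers the empty scheme. -/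
theorem mem_of_isEmpty (h₁ : Presieve.IsSheaf (Scheme.zariskiTopology.over S) F) {T : Scheme.{u}} [IsEmpty T]
    (R : Sieve T) : R ∈ finestBelow F T :=
  mem_of_openCover h₁ (T.openCoverOfIsOpenCover (fun k : PEmpty.{1} => PEmpty.elim k)
    (top_le_iff.1 fun t _ => isEmptyElim t)) fun k => PEmpty.elim k

set_option maxHeartbeats 800000 in
/-- The inductive step over a reduced closed subscheme. -/
theorem reduced_step (h₁ : Presieve.IsSheaf (Scheme.zariskiTopology.over S) F) (h₂ : FlatProperCond F)
    (h₃ : TwoSquareCond F) {X V W : Scheme.{u}} [IsAffine X] [IsLocallyNoetherian X] (f : V ⟶ X) [IsProper f]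
    [Surjective f] (C : Closeds X)
    (ih : ∀ C' < C, ∀ (W' : Scheme.{u}) (j' : W' ⟶ X) [IsClosedImmersion j'],
      Set.range j' = (C' : Set X) → (gen f).pullback j' ∈ finestBelow F W')
    (j : W ⟶ X) [IsClosedImmersion j] [IsAffine W] [IsLocallyNoetherian W] [AlgebraicGeometry.IsReduced W]
    (hr : Set.range j = (C : Set X)) : (gen f).pullback j ∈ finestBelow F W := by
  rcases isEmpty_or_nonempty W with hW | ⟨⟨w⟩⟩
  · exact mem_of_isEmpty h₁ _
  haveI : IsNoetherian W := ⟨⟩
  let fW := pullback.fst j f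
  haveI : IsProper fW := MorphismProperty.pullback_fst (P := @IsProper) _ _ ‹_›
  haveI : Surjective fW := MorphismProperty.pullback_fst (P := @Surjective) _ _ ‹_›
  haveI : LocallyOfFinitePresentation fW := AbsApprox.lfp_of_lft_noetherian fW
  obtain ⟨U, 𝓘, Y', b, hUd, -, hbl, hadm, -, hall⟩ :=
    Groth.Agent.S14793.result (finite_maximal W).isCompact fW (univSSubtrusive_of_proper fW)
  refine mem_of_pair (blowUp_mem_of_noetherian h₁ h₃ 𝓘 b hbl) ?_ ?_
  · -- the centre is smaller
    rw [← Sieve.pullback_comp]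
    let C' : Closeds X :=
      ⟨Set.range (𝓘.subschemeι ≫ j), (𝓘.subschemeι ≫ j).isClosedEmbedding.isClosed_range⟩
    refine ih C' (lt_of_le_of_ne ?_ ?_) _ _ rfl
    · rintro _ ⟨z, rfl⟩
      show _ ∈ (C : Set X)
      rw [← hr, Scheme.Hom.comp_apply]
      exact ⟨_, rfl⟩
    · intro e
      obtain ⟨x, hxU, -⟩ : ((U : Set W) ∩ Set.univ).Nonempty := by
        rw [Set.inter_univ]; exact hUd.nonempty_iff.2 ⟨w⟩
      have hx : j x ∈ (C' : Set X) := by
        rw [e, ← hr]
        exact ⟨x, rfl⟩
      obtain ⟨z, hz⟩ := hx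
      have hzx : 𝓘.subschemeι z = x := j.isClosedEmbedding.injective ((Scheme.Hom.comp_apply _ _ _).symm.trans hz)
      have hmem : x ∈ (𝓘.support : Set W) := by
        rw [← Scheme.IdealSheafData.range_subschemeι]
        exact ⟨z, hzx⟩
      exact (hadm.2.notMem_of_mem_left hmem) hxU
  · -- the strict transform is flat
    let p₁ := pullback.fst fW b
    let p₂ := pullback.snd fW b
    let E := (𝓘.comap fW).comap p₁
    have hlp : HTop.IsLocPrincipal E := fun x => by
      obtain ⟨W', e, hx, -, he⟩ := RZExt.IsTorsionIdeal.exists_small hbl.1 p₂ x ⊤ trivial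
      refine ⟨W', hx, e, ?_⟩
      rw [show E = (𝓘.comap b).comap p₂ by
        rw [← Scheme.IdealSheafData.comap_comp, ← pullback.condition, Scheme.IdealSheafData.comap_comp]]
      exact he
    have hT := FlatBlowUp.isTorsionIdeal_supportedOn hlp
    obtain ⟨hfl, hsurj, hlfp, -, -⟩ := hall _ p₁ p₂ (IsPullback.of_hasPullback fW b) (HTop.supportedOn E)
      fun V' a => (hT V' a).trans Iff.rfl
    let q := (HTop.supportedOn E).subschemeι ≫ p₂
    haveI : Flat q := hfl
    haveI : Surjective q := hsurj
    haveI : LocallyOfFinitePresentation q := hlfp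
    haveI : IsProper p₂ := MorphismProperty.pullback_snd (P := @IsProper) _ _ ‹_›
    haveI : IsProper q := inferInstanceAs (IsProper ((HTop.supportedOn E).subschemeι ≫ p₂))
    refine (finestBelow F).superset_covering (fun T a ha => ?_) (gen_mem_of_flat_proper h₁ h₂ q)
    obtain ⟨c, rfl⟩ := (gen_iff _ _).1 ha
    refine (gen_iff _ _).2 ⟨c ≫ (HTop.supportedOn E).subschemeι ≫ p₁ ≫ pullback.snd j f, ?_⟩
    simp only [q, p₁, p₂, fW, Category.assoc, ← pullback.condition, pullback.condition_assoc]

/-- A proper surjective morphism to an affine noetherian scheme is a covering. -/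
theorem proper_surjective_mem (h₁ : Presieve.IsSheaf (Scheme.zariskiTopology.over S) F) (h₂ : FlatProperCond F)
    (h₃ : TwoSquareCond F) {X V : Scheme.{u}} [IsAffine X] [IsLocallyNoetherian X] (f : V ⟶ X) [IsProper f]
    [Surjective f] : gen f ∈ finestBelow F X := by
  haveI : IsNoetherian X := ⟨⟩
  suffices H : ∀ (C : Closeds X) (W : Scheme.{u}) (j : W ⟶ X) [IsClosedImmersion j],
      Set.range j = (C : Set X) → (gen f).pullback j ∈ finestBelow F W by
    have := H ⊤ X (𝟙 X) (by simp)
    rwa [Sieve.pullback_id] at this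
  intro C
  induction C using WellFoundedLT.induction with
  | ind C ih =>
    intro W₀ j₀ _ hr
    haveI : IsAffine W₀ := isAffine_of_isAffineHom j₀
    haveI : IsLocallyNoetherian W₀ := LocallyOfFiniteType.isLocallyNoetherian j₀
    -- pass to the reduction
    let N := W₀.nilradical
    obtain ⟨T₀, b₀, hb₀⟩ := BlowUpExist.exists_isBlowUp W₀ N
    haveI : IsEmpty T₀ := by
      refine ⟨fun t => ?_⟩
      obtain ⟨z, -, hz⟩ := dense_iff_inter_open.1 (RZExt.dense_awayFrom hb₀.1) Set.univ isOpen_univ ⟨t, trivial⟩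
      refine hz ?_
      rw [Scheme.IdealSheafData.support_comap, Scheme.support_nilradical]
      trivial
    refine mem_of_pair (blowUp_mem_of_noetherian h₁ h₃ N b₀ hb₀) ?_ (mem_of_isEmpty h₁ _)
    rw [← Sieve.pullback_comp]
    have hrN : Set.range (N.subschemeι ≫ j₀) = (C : Set X) := by
      rw [Scheme.Hom.comp_base, TopCat.coe_comp, Set.range_comp, Scheme.IdealSheafData.range_subschemeι,
        Scheme.support_nilradical, Closeds.coe_top, Set.image_univ]
      exact hr
    haveI : AlgebraicGeometry.IsReduced N.subscheme := by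
      have e : N = Scheme.IdealSheafData.vanishingIdeal (⊤ : Closeds W₀) :=
        Scheme.IdealSheafData.vanishingIdeal_top.symm
      rw [e]
      exact DvrDom.isReduced_vanishingIdeal_subscheme _
    generalize hj : N.subschemeι ≫ j₀ = j at hrN ⊢
    haveI : IsClosedImmersion j := hj ▸ inferInstance
    haveI : IsAffine N.subscheme := isAffine_of_isAffineHom j
    haveI : IsLocallyNoetherian N.subscheme := LocallyOfFiniteType.isLocallyNoetherian j
    exact reduced_step h₁ h₂ h₃ f C ih j hrN

end Groth.Agent.HTopAbu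

end
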