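import Groth.Agent.HTopVPh.HSheaf
import Groth.Agent.AlmostBlow.Basic
import Groth.Prelude.Def_HTop3
import Mathlib

/-!
# The finest topology of a presheaf satisfying Zariski, flat proper and almost blow-up descent
-/

set_option autoImplicit false
set_option linter.style.haveILetI false
set_option backward.isDefEq.respectTransparency false
set_option backward.isDefEq.respectTransparency.types false

universe w u

open CategoryTheory CategoryTheory.Limits AlgebraicGeometry TopologicalSpace Opposite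

noncomputable section

namespace Groth.Agent.HTopAbu

open HTopVPh (finestBelow)

variable {S : Scheme.{u}} {F : (Over S)ᵒᵖ ⥤ Type w}

variable (F) in
/-- Sheaf condition for surjective flat proper morphisms of finite presentation onto affines. -/
def FlatProperCond : Prop :=
  ∀ (X Y : Over S) (f : X ⟶ Y), IsAffine Y.left → Surjective f.left → Flat f.left → IsProper f.left →
    LocallyOfFinitePresentation f.left → Presieve.IsSheafFor F (Presieve.singleton f)

variable (F) in
/-- Cartesian squares of sections for almost blow-up squares in at most two functions. -/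
def TwoSquareCond : Prop :=
  ∀ (E Z X' X : Over S) (e : E ⟶ X') (π : E ⟶ Z) (b : X' ⟶ X) (i : Z ⟶ X), IsAffine X.left →
    HTop.IsAlmostBlowUpSquare e.left π.left b.left i.left →
    (∃ f₁ f₂ : Γ(X.left, ⊤), i.left.ker = Scheme.IdealSheafData.ofIdealTop (Ideal.span {f₁, f₂})) →
    ∀ (t : F.obj (op Z)) (s' : F.obj (op X')), F.map π.op t = F.map e.op s' →
      ∃! s : F.obj (op X), F.map i.op s = t ∧ F.map b.op s = s'

theorem zariski_le (h₁ : Presieve.IsSheaf (Scheme.zariskiTopology.over S) F) :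
    Scheme.zariskiTopology ≤ finestBelow F := fun Z R hR Y g W a => by
  refine h₁ _ (GrothendieckTopology.pullback_stable _ a ?_)
  rw [GrothendieckTopology.mem_over_iff, OrderIso.apply_symm_apply]
  exact GrothendieckTopology.pullback_stable _ g hR

/-- To be covering can be checked on affine schemes over the base. -/
theorem mem_of_affine (h₁ : Presieve.IsSheaf (Scheme.zariskiTopology.over S) F) {Z : Scheme.{u}} {R : Sieve Z}
    (h : ∀ (V : Over S) (g : V.left ⟶ Z), IsAffine V.left →
      Presieve.IsSheafFor F ((Sieve.overEquiv V).symm (R.pullback g)).arrows) : R ∈ finestBelow F Z := by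
  intro Y g W a
  rw [← Sieve.overEquiv_symm_pullback, ← Sieve.pullback_comp]
  refine HTopV.isSheafFor_of_pullback h₁ (fun V => IsAffine V.left) HTopVLim.generate_affine_mem_over _
    fun V k hV => ?_
  rw [← Sieve.overEquiv_symm_pullback, ← Sieve.pullback_comp]
  exact h V _ hV

/-- The sieve generated by a morphism. -/
abbrev gen {Z X : Scheme.{u}} (f : X ⟶ Z) : Sieve Z := Sieve.generate (Presieve.singleton f)

theorem gen_iff {Z X T : Scheme.{u}} (f : X ⟶ Z) (a : T ⟶ Z) : gen f a ↔ ∃ c : T ⟶ X, c ≫ f = a := by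
  constructor
  · rintro ⟨_, c, _, ⟨⟩, h⟩
    exact ⟨c, h⟩
  · rintro ⟨c, h⟩
    exact ⟨_, c, _, Presieve.singleton_self f, h⟩

theorem gen_mem_of_flat_proper (h₁ : Presieve.IsSheaf (Scheme.zariskiTopology.over S) F) (h₂ : FlatProperCond F)
    {X Z : Scheme.{u}} (f : X ⟶ Z) [IsProper f] [Flat f] [Surjective f] [LocallyOfFinitePresentation f] :
    gen f ∈ finestBelow F Z := by
  refine mem_of_affine h₁ fun V g hV => ?_
  let V' : Over S := Over.mk (pullback.fst g f ≫ V.hom)
  let σ : V' ⟶ V := Over.homMk (pullback.fst g f) rfl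
  have e : (Sieve.overEquiv V).symm ((gen f).pullback g) = Sieve.generate (Presieve.singleton σ) := by
    refine Sieve.ext fun T a => ?_
    rw [Sieve.overEquiv_symm_iff]
    show gen f (a.left ≫ g) ↔ _
    rw [gen_iff]
    constructor
    · rintro ⟨c, hc⟩
      refine ⟨_, Over.homMk (pullback.lift a.left c hc.symm) ?_, _, Presieve.singleton_self σ, ?_⟩
      · show pullback.lift a.left c hc.symm ≫ pullback.fst g f ≫ V.hom = T.hom
        rw [pullback.lift_fst_assoc, Over.w a]
      · ext
        exact pullback.lift_fst _ _ _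
    · rintro ⟨_, c, _, ⟨⟩, rfl⟩
      exact ⟨c.left ≫ pullback.snd g f, by
        rw [Category.assoc, ← pullback.condition, Over.comp_left, Category.assoc]; rfl⟩
  rw [e]
  exact (Presieve.isSheafFor_iff_generate _).1 (h₂ V' V σ hV
    (MorphismProperty.pullback_fst (P := @Surjective) _ _ ‹_›)
    (MorphismProperty.pullback_fst (P := @Flat) _ _ ‹_›)
    (MorphismProperty.pullback_fst (P := @IsProper) _ _ ‹_›)
    (MorphismProperty.pullback_fst (P := @LocallyOfFinitePresentation) _ _ ‹_›))

theorem ideal_comap_ofIdealTop {X Y : Scheme.{u}} [IsAffine X] [IsAffine Y] (g : Y ⟶ X) (I : Ideal Γ(X, ⊤)) :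
    (Scheme.IdealSheafData.ofIdealTop I).comap g = Scheme.IdealSheafData.ofIdealTop (I.map g.appTop.hom) := by
  refine Scheme.IdealSheafData.ext_of_isAffine ?_
  rw [FpqcDescent.ideal_comap_appLE _ g ⟨⊤, isAffineOpen_top X⟩ ⟨⊤, isAffineOpen_top Y⟩ (fun _ _ => trivial)]
  simp only [Scheme.IdealSheafData.ofIdealTop_ideal, homOfLE_refl, op_id, CategoryTheory.Functor.map_id,
    CommRingCat.hom_id, Ideal.map_id]
  rw [show g.appTop = g.appLE ⊤ ⊤ (fun _ _ => trivial) from Scheme.Hom.app_eq_appLE g]

/-- An almost blow-up square in at most two functions gives a covering. -/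
theorem pair_mem (h₁ : Presieve.IsSheaf (Scheme.zariskiTopology.over S) F) (h₃ : TwoSquareCond F)
    {E Z X' X : Scheme.{u}} [IsAffine X] (e : E ⟶ X') (π : E ⟶ Z) (b : X' ⟶ X) (i : Z ⟶ X)
    (h : HTop.IsAlmostBlowUpSquare e π b i) (f₁ f₂ : Γ(X, ⊤))
    (hker : i.ker = Scheme.IdealSheafData.ofIdealTop (Ideal.span {f₁, f₂})) :
    gen i ⊔ gen b ∈ finestBelow F X := by
  refine mem_of_affine h₁ fun V g hV => ?_
  haveI := h.isClosedImmersion
  -- the base-changed square over `V`
  let Z₁ : Over S := Over.mk (pullback.fst g i ≫ V.hom)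
  let i₁ : Z₁ ⟶ V := Over.homMk (pullback.fst g i) rfl
  let X₁ : Over S := Over.mk (pullback.fst g b ≫ V.hom)
  let b₁ : X₁ ⟶ V := Over.homMk (pullback.fst g b) rfl
  have hZ : IsPullback (pullback.snd g i) (pullback.fst g i) i g := (IsPullback.of_hasPullback g i).flip
  have hX : IsPullback (pullback.snd g b) (pullback.fst g b) b g := (IsPullback.of_hasPullback g b).flip
  let E₁ : Over S := Over.mk (pullback.snd e (pullback.snd g b) ≫ X₁.hom)
  let e₁ : E₁ ⟶ X₁ := Over.homMk (pullback.snd e (pullback.snd g b)) rfl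
  have hw : (pullback.fst e (pullback.snd g b) ≫ π) ≫ i =
      (pullback.snd e (pullback.snd g b) ≫ pullback.fst g b) ≫ g := by
    rw [Category.assoc, Category.assoc, ← h.isPullback.w, hX.w.symm, pullback.condition_assoc]
  let π₁' := hZ.lift _ _ hw
  let π₁ : E₁ ⟶ Z₁ := Over.homMk π₁' (by
    show π₁' ≫ pullback.fst g i ≫ V.hom = pullback.snd e (pullback.snd g b) ≫ pullback.fst g b ≫ V.hom
    rw [hZ.lift_snd_assoc, Category.assoc])
  have hsq : HTop.IsAlmostBlowUpSquare e₁.left π₁.left b₁.left i₁.left :=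
    AlmostBlow.main h g hX hZ (IsPullback.of_hasPullback e (pullback.snd g b)) (hZ.lift_snd _ _ hw)
  have hgens : ∃ a₁ a₂ : Γ(V.left, ⊤), i₁.left.ker = Scheme.IdealSheafData.ofIdealTop (Ideal.span {a₁, a₂}) := by
    refine ⟨g.appTop.hom f₁, g.appTop.hom f₂, ?_⟩
    show (pullback.fst g i).ker = _
    rw [AlmostBlow.ker_of_isPullback hZ, hker, ideal_comap_ofIdealTop, Ideal.map_span, Set.image_pair]
  intro x hx
  -- the two basic members
  have hi : ((Sieve.overEquiv V).symm ((gen i ⊔ gen b).pullback g)).arrows i₁ := by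
    rw [Sieve.overEquiv_symm_iff]
    exact Or.inl ((gen_iff _ _).2 ⟨pullback.snd g i, pullback.condition.symm⟩)
  have hb : ((Sieve.overEquiv V).symm ((gen i ⊔ gen b).pullback g)).arrows b₁ := by
    rw [Sieve.overEquiv_symm_iff]
    exact Or.inr ((gen_iff _ _).2 ⟨pullback.snd g b, pullback.condition.symm⟩)
  have hπ : π₁ ≫ i₁ = e₁ ≫ b₁ := by
    ext
    exact hsq.isPullback.w.symm
  obtain ⟨s, ⟨hs₁, hs₂⟩, hu⟩ := h₃ _ _ _ _ e₁ π₁ b₁ i₁ hV hsq hgens (x i₁ hi) (x b₁ hb) (hx π₁ e₁ hi hb hπ)
  refine ⟨s, fun T a ha => ?_, fun s' hs' => hu s' ⟨hs' i₁ hi, hs' b₁ hb⟩⟩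
  have ha' := (Sieve.overEquiv_symm_iff _ _).1 ha
  rcases ha' with hc | hc
  · obtain ⟨c, hc⟩ := (gen_iff _ _).1 hc
    let c₁ : T ⟶ Z₁ := Over.homMk (pullback.lift a.left c hc.symm) (by
      show pullback.lift a.left c hc.symm ≫ pullback.fst g i ≫ V.hom = T.hom
      rw [pullback.lift_fst_assoc, Over.w a])
    have hca : c₁ ≫ i₁ = a := by
      ext
      exact pullback.lift_fst _ _ _
    have := hx c₁ (𝟙 T) hi ha (by rw [hca, Category.id_comp])
    simp only [op_id, Functor.map_id_apply] at this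
    refine (congrArg (fun m => F.map m.op s) hca.symm).trans ?_
    rw [op_comp, Functor.map_comp_apply, hs₁, this]
  · obtain ⟨c, hc⟩ := (gen_iff _ _).1 hc
    let c₁ : T ⟶ X₁ := Over.homMk (pullback.lift a.left c hc.symm) (by
      show pullback.lift a.left c hc.symm ≫ pullback.fst g b ≫ V.hom = T.hom
      rw [pullback.lift_fst_assoc, Over.w a])
    have hca : c₁ ≫ b₁ = a := by
      ext
      exact pullback.lift_fst _ _ _
    have := hx c₁ (𝟙 T) hb ha (by rw [hca, Category.id_comp])
    simp only [op_id, Functor.map_id_apply] at this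
    refine (congrArg (fun m => F.map m.op s) hca.symm).trans ?_
    rw [op_comp, Functor.map_comp_apply, hs₂, this]

/-- Transitivity along a covering by two morphisms. -/
theorem mem_of_pair {J : GrothendieckTopology Scheme.{u}} {Z X' X : Scheme.{u}} {i : Z ⟶ X} {b : X' ⟶ X}
    (h : gen i ⊔ gen b ∈ J X) {R : Sieve X} (hi : R.pullback i ∈ J Z) (hb : R.pullback b ∈ J X') : R ∈ J X := by
  refine J.transitive h R fun T a ha => ?_
  rcases ha with hc | hc
  · obtain ⟨c, rfl⟩ := (gen_iff _ _).1 hc
    rw [Sieve.pullback_comp]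
    exact J.pullback_stable c hi
  · obtain ⟨c, rfl⟩ := (gen_iff _ _).1 hc
    rw [Sieve.pullback_comp]
    exact J.pullback_stable c hb

/-- Covering may be checked on an open cover. -/
theorem mem_of_openCover (h₁ : Presieve.IsSheaf (Scheme.zariskiTopology.over S) F) {X : Scheme.{u}}
    (𝒰 : X.OpenCover) {R : Sieve X} (h : ∀ k, R.pullback (𝒰.f k) ∈ finestBelow F (𝒰.X k)) :
    R ∈ finestBelow F X := by
  refine (finestBelow F).transitive (zariski_le h₁ _ 𝒰.mem_grothendieckTopology) R fun T a ha => ?_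
  obtain ⟨_, c, _, ⟨k⟩, rfl⟩ := ha
  rw [Sieve.pullback_comp]
  exact (finestBelow F).pullback_stable c (h k)

theorem mem_of_gen {J : GrothendieckTopology Scheme.{u}} {X' X : Scheme.{u}} {b : X' ⟶ X} (h : gen b ∈ J X)
    {R : Sieve X} (hb : R.pullback b ∈ J X') : R ∈ J X := by
  refine J.transitive h R fun T a ha => ?_
  obtain ⟨c, rfl⟩ := (gen_iff _ _).1 ha
  rw [Sieve.pullback_comp]
  exact J.pullback_stable c hb

end Groth.Agent.HTopAbu

end
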